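import Cfsg.Agent.Lib.ChevStructure.CheckCore
import Cfsg.Agent.Lib.ChevStructure.Data.E7

/-! Kernel certificate for the table of type E7. -/

set_option autoImplicit false
set_option maxRecDepth 100000

namespace Cfsg.Agent.Lib.ChevStructure.Cert.E7

open Cfsg.Agent.Lib.ChevStructure
open Cfsg.Lie

theorem link : Data.E7.fast.linkOK chevE7 = true := by decide +kernel
theorem rows : Data.E7.fast.rowsOK 0 chevE7.chain.toList = true := by decide +kernel
theorem roots : Data.E7.fast.rootsOK = true := by decide +kernel
theorem simples : Data.E7.fast.simpleOK = true := by decide +kernel
theorem refl : Data.E7.fast.reflOK = true := by decide +kernel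
theorem reach : Data.E7.fast.reachOK = true := by decide +kernel
theorem wRefl : Data.E7.fast.wOK = true := by decide +kernel
theorem pm : Data.E7.fast.pmOK = true := by decide +kernel
theorem comm : Data.E7.fast.commOK = true := by decide +kernel

theorem certified : Fast.Certified Data.E7.fast chevE7 :=
  { rows := rows, link := link, roots := roots, simples := simples, refl := refl, reach := reach,
    wRefl := wRefl, pm := pm, comm := comm }

/-- The verified facts about the table of type E7. -/
noncomputable def core : Core chevE7 := certified.core

end Cfsg.Agent.Lib.ChevStructure.Cert.E7
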